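import Groth.Agent.DimFormula.ClosedSub
import Groth.Agent.DimFormula.Fibre
import Groth.Agent.DimFormula.QuasiSection

/-!
# Condition (T): components equidimensional over the base (EGA IV 14.4.4)
-/

set_option autoImplicit false
set_option linter.style.haveILetI false

open AlgebraicGeometry CategoryTheory Topology

namespace Groth.Agent.UnivOpen

universe u

variable {X S : Scheme.{u}} (f : X ⟶ S) [LocallyOfFiniteType f]

/-- If the dimensions of the fibres near `x` are bounded by the generic one of a component through `x`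
dominating a component of the base, that component is equidimensional at `x`. -/
theorem conditionT_of_bound {x η : X} (hη : η ⤳ x) (hmax : ∀ t, t ⤳ η → t = η)
    (hfη : ∀ b, b ⤳ f η → b = f η) (U : X.Opens) (hxU : x ∈ U)
    (hU : ∀ z ∈ U, FibDim.rd f z ≤ FibDim.rd f η) :
    ∃ W : TopologicalSpace.Closeds X, (W : Set X) ∈ irreducibleComponents (X : Type u) ∧
      ∃ w : ↥((Scheme.IdealSheafData.vanishingIdeal W).subscheme),
        (Scheme.IdealSheafData.vanishingIdeal W).subschemeι.base w = x ∧
        EGA43.IsEquidimAt ((Scheme.IdealSheafData.vanishingIdeal W).subschemeι ≫ f) w := by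
  let W : TopologicalSpace.Closeds X := ⟨closure {η}, isClosed_closure⟩
  let j := (Scheme.IdealSheafData.vanishingIdeal W).subschemeι
  have hrange : Set.range j = closure {η} := DimFormula.range_vanishingIdeal W
  obtain ⟨η', hη'⟩ : η ∈ Set.range j := by rw [hrange]; exact subset_closure rfl
  obtain ⟨w, hw⟩ : x ∈ Set.range j := by rw [hrange]; exact specializes_iff_mem_closure.1 hη
  have hgen : ∀ a, η' ⤳ a := fun a => j.isClosedEmbedding.isInducing.specializes_iff.1 <| by
    rw [hη', specializes_iff_mem_closure, ← hrange]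
    exact ⟨a, rfl⟩
  refine ⟨W, FDescent.closure_mem_irreducibleComponents hmax, w, hw,
    (FibDim.isEquidimAt_iff (j ≫ f) w).2 ⟨FibDim.rd f η, j ⁻¹ᵁ U, show j w ∈ U from hw ▸ hxU,
      fun a _ ham => ?_, fun z hz hzm => le_antisymm ?_ ?_⟩⟩
  · obtain rfl : a = η' := (ham η' (hgen a)).symm
    rw [Scheme.Hom.comp_apply, Scheme.Hom.comp_apply, hη', hw]
    exact ⟨hfη, hη.map f.continuous⟩
  · rw [DimFormula.rd_closedSub]
    exact hU _ hz
  · have h1 := DimFormula.rd_le_of_specializes' (j ≫ f) (hgen z)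
    rwa [(DimFormula.fb_eq_zero_iff _ z).2 hzm, add_zero, DimFormula.rd_closedSub f j η', hη'] at h1

/-- EGA IV 14.4.4 (iv) ⇒ (iii). -/
theorem conditionT_of_fibMax (x : X)
    (h : ∀ z, FibDim.FibMax f z → ∃ W : TopologicalSpace.Closeds X, (W : Set X) ∈ irreducibleComponents (X : Type u) ∧
      ∃ w : ↥((Scheme.IdealSheafData.vanishingIdeal W).subscheme),
        (Scheme.IdealSheafData.vanishingIdeal W).subschemeι.base w = z ∧
        EGA43.IsEquidimAt ((Scheme.IdealSheafData.vanishingIdeal W).subschemeι ≫ f) w) :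
    ∃ W : TopologicalSpace.Closeds X, (W : Set X) ∈ irreducibleComponents (X : Type u) ∧
      ∃ w : ↥((Scheme.IdealSheafData.vanishingIdeal W).subscheme),
        (Scheme.IdealSheafData.vanishingIdeal W).subschemeι.base w = x ∧
        EGA43.IsEquidimAt ((Scheme.IdealSheafData.vanishingIdeal W).subschemeι ≫ f) w := by
  obtain ⟨z, hz, hfz, hzm, hdim⟩ := FibDim.exists_fibMax_generization f x
  obtain ⟨W, hW, w, rfl, hweq⟩ := h z hzm
  let j := (Scheme.IdealSheafData.vanishingIdeal W).subschemeι
  have hrange : Set.range j = (W : Set X) := DimFormula.range_vanishingIdeal W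
  obtain ⟨e, U, hwU, h1, h2⟩ := (FibDim.isEquidimAt_iff (j ≫ f) w).1 hweq
  obtain ⟨η, hηW, hmax⟩ := FDescent.exists_maximal_of_mem_irreducibleComponents hW
  obtain ⟨η', hη'⟩ : η ∈ Set.range j := by rw [hrange, hηW]; exact subset_closure rfl
  have hgen : η' ⤳ w := j.isClosedEmbedding.isInducing.specializes_iff.1 <| by
    rw [hη', specializes_iff_mem_closure, ← hηW, ← hrange]
    exact ⟨w, rfl⟩
  have hmax' : ∀ t, t ⤳ η' → t = η' := fun t ht =>
    j.isClosedEmbedding.injective (by rw [hη']; exact hmax _ (hη' ▸ ht.map j.continuous))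
  have hηx : η ⤳ x := (hη' ▸ hgen.map j.continuous : η ⤳ j w).trans hz
  have hfη := (h1 η' (hgen.mem_open U.isOpen hwU) hmax').1
  rw [Scheme.Hom.comp_apply, hη'] at hfη
  have e1 : FibDim.rd (j ≫ f) η' = e :=
    h2 η' (hgen.mem_open U.isOpen hwU) (FibDim.fibMax_of_maximal _ hmax')
  have e2 : FibDim.rd (j ≫ f) w = e :=
    h2 w hwU fun v hv hfv => j.isClosedEmbedding.injective (hzm _ (hv.map j.continuous) hfv)
  rw [DimFormula.rd_closedSub, hη'] at e1
  rw [DimFormula.rd_closedSub] at e2
  obtain ⟨V, hxV, hV⟩ := FibDim.exists_nhd_rd_le f x (FibDim.rd f η) (by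
    rw [hdim, e1, ← e2]; rfl)
  exact conditionT_of_bound f hηx hmax hfη V hxV hV

end Groth.Agent.UnivOpen
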