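import Groth.Agent.FibDim.Open
import Groth.Agent.UnivOpen.Normal.ConditionT
import Mathlib.RingTheory.Valuation.LocalSubring
import Mathlib.AlgebraicGeometry.Morphisms.UniversallyOpen

/-!
# Universally open morphisms and relative degrees of generizations, over an arbitrary base
-/

set_option autoImplicit false
set_option linter.style.haveILetI false

open AlgebraicGeometry CategoryTheory Limits Topology TensorProduct MvPolynomial

namespace Groth.Agent.UnivOpen

universe u

variable {A B : Type u} [CommRing A] [CommRing B] [Algebra A B]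

/-- Independent elements stay independent at some prime of a base change over a local extension. -/
theorem exists_indepMod_over {V : Type u} [CommRing V] [IsLocalRing V] [Algebra A V] (P : Ideal B) [P.IsPrime]
    (hV : (IsLocalRing.maximalIdeal V).comap (algebraMap A V) = P.under A)
    {n : ℕ} {t : Fin n → B} (ht : FibDim.IndepMod (A := A) t P) :
    ∃ P' : Ideal (V ⊗[A] B), P'.IsPrime ∧
      P'.comap (Algebra.TensorProduct.includeRight : B →ₐ[A] V ⊗[A] B).toRingHom = P ∧
      P'.under V = IsLocalRing.maximalIdeal V ∧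
      FibDim.IndepMod (A := V) (fun i => (1 : V) ⊗ₜ[A] t i) P' := by
  let kV := IsLocalRing.ResidueField V
  let K := P.ResidueField
  let L := FractionRing (MvPolynomial (Fin n) kV)
  let q : Ideal (MvPolynomial (Fin n) A) := (P.under A).map MvPolynomial.C
  haveI : q.IsPrime := FibDim.isPrime_map_C
  let a : MvPolynomial (Fin n) A →+* K := (algebraMap B K).comp (aeval (R := A) t).toRingHom
  let b : MvPolynomial (Fin n) A →+* L :=
    (algebraMap (MvPolynomial (Fin n) kV) L).comp (MvPolynomial.map (algebraMap A kV))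
  have hak : RingHom.ker a = q := by
    ext G
    rw [RingHom.mem_ker, RingHom.comp_apply, Ideal.algebraMap_residueField_eq_zero]
    exact ht.mem_iff G
  have hbk : RingHom.ker b = q := by
    have hkV : RingHom.ker (algebraMap A kV) = P.under A := by
      rw [IsScalarTower.algebraMap_eq A V kV, ← RingHom.comap_ker,
        IsLocalRing.ResidueField.algebraMap_eq, IsLocalRing.ker_residue, hV]
    ext G
    rw [RingHom.mem_ker, RingHom.comp_apply, map_eq_zero_iff _ (IsFractionRing.injective _ L), MvPolynomial.ext_iff]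
    simp only [MvPolynomial.coeff_map, MvPolynomial.coeff_zero, q, MvPolynomial.mem_map_C_iff, ← hkV, RingHom.mem_ker]
  let F := q.ResidueField
  have hu : ∀ (c : MvPolynomial (Fin n) A →+* K), RingHom.ker c = q → q.primeCompl ≤ (IsUnit.submonoid K).comap c :=
    fun c hc G hG => (show c G ≠ 0 from fun h0 => hG (hc.le h0)).isUnit
  have hu' : q.primeCompl ≤ (IsUnit.submonoid L).comap b :=
    fun G hG => (show b G ≠ 0 from fun h0 => hG (hbk.le h0)).isUnit
  let a' : F →+* K := Ideal.ResidueField.lift q a hak.ge (hu a hak)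
  let b' : F →+* L := Ideal.ResidueField.lift q b hbk.ge hu'
  letI : Algebra F K := a'.toAlgebra
  letI : Algebra F L := b'.toAlgebra
  obtain ⟨Ω, _, α, β, hαβ⟩ : ∃ (Ω : Type u) (_ : Field Ω) (α : K →+* Ω) (β : L →+* Ω),
      ∀ G, α (a G) = β (b G) := by
    obtain ⟨M, hM⟩ := Ideal.exists_maximal (K ⊗[F] L)
    refine ⟨(K ⊗[F] L) ⧸ M, Ideal.Quotient.field M,
      (Ideal.Quotient.mk M).comp Algebra.TensorProduct.includeLeftRingHom,
      (Ideal.Quotient.mk M).comp (Algebra.TensorProduct.includeRight : L →ₐ[F] K ⊗[F] L).toRingHom,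
      fun G => congrArg (Ideal.Quotient.mk M) ?_⟩
    have h1 := ((Algebra.TensorProduct.includeLeft : K →ₐ[F] K ⊗[F] L).commutes (algebraMap _ F G)).trans
      ((Algebra.TensorProduct.includeRight : L →ₐ[F] K ⊗[F] L).commutes (algebraMap _ F G)).symm
    rw [show algebraMap F K (algebraMap _ F G) = a G from Ideal.ResidueField.lift_algebraMap q a hak.ge (hu a hak) G,
      show algebraMap F L (algebraMap _ F G) = b G from Ideal.ResidueField.lift_algebraMap q b hbk.ge hu' G] at h1
    exact h1
  let βV : V →+* Ω := β.comp ((algebraMap (MvPolynomial (Fin n) kV) L).comp (MvPolynomial.C.comp (algebraMap V kV)))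
  let αB : B →+* Ω := α.comp (algebraMap B K)
  letI : Algebra A Ω := (βV.comp (algebraMap A V)).toAlgebra
  let fV : V →ₐ[A] Ω := { βV with commutes' := fun _ => rfl }
  have hfB : ∀ c, αB (algebraMap A B c) = algebraMap A Ω c := fun c => by
    show α (algebraMap B K (algebraMap A B c)) = _
    have := hαβ (MvPolynomial.C c)
    simp only [a, b, RingHom.comp_apply, MvPolynomial.map_C] at this
    rw [show (aeval (R := A) t).toRingHom (MvPolynomial.C c) = algebraMap A B c from aeval_C t c] at this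
    rw [this]
    rfl
  let fB : B →ₐ[A] Ω := { αB with commutes' := hfB }
  let Ψ : V ⊗[A] B →ₐ[A] Ω := Algebra.TensorProduct.lift fV fB fun _ _ => .all _ _
  have hΨV : ∀ v, Ψ (algebraMap V (V ⊗[A] B) v) = βV v := fun v => by
    show Ψ (v ⊗ₜ[A] (1 : B)) = _
    simp [Ψ]; rfl
  have hΨB : ∀ c, Ψ ((1 : V) ⊗ₜ[A] c) = αB c := fun c => by simp [Ψ]; rfl
  have hker : ∀ v, βV v = 0 ↔ v ∈ IsLocalRing.maximalIdeal V := fun v => by
    rw [show βV v = β (algebraMap (MvPolynomial (Fin n) kV) L (MvPolynomial.C (algebraMap V kV v))) from rfl,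
      map_eq_zero_iff _ β.injective, map_eq_zero_iff _ (IsFractionRing.injective _ L), MvPolynomial.C_eq_zero,
      IsLocalRing.ResidueField.algebraMap_eq, IsLocalRing.residue_eq_zero_iff]
  have hP'V : (RingHom.ker Ψ.toRingHom).under V = IsLocalRing.maximalIdeal V := by
    ext v
    show Ψ (algebraMap V (V ⊗[A] B) v) = 0 ↔ _
    rw [hΨV, hker]
  refine ⟨RingHom.ker Ψ.toRingHom, RingHom.ker_isPrime _, ?_, hP'V, fun G hG => ?_⟩
  · ext c
    show Ψ ((1 : V) ⊗ₜ[A] c) = 0 ↔ _
    rw [hΨB]
    show α (algebraMap B K c) = 0 ↔ _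
    rw [map_eq_zero_iff _ α.injective, Ideal.algebraMap_residueField_eq_zero]
  · have h1 : Ψ.toRingHom.comp (aeval (R := V) fun i => (1 : V) ⊗ₜ[A] t i).toRingHom =
        β.comp ((algebraMap (MvPolynomial (Fin n) kV) L).comp (MvPolynomial.map (algebraMap V kV))) := by
      refine MvPolynomial.ringHom_ext (fun v => ?_) fun i => ?_
      · simp only [RingHom.comp_apply, AlgHom.toRingHom_eq_coe, RingHom.coe_coe, aeval_C, MvPolynomial.map_C]
        rw [hΨV]
        rfl
      · simp only [RingHom.comp_apply, AlgHom.toRingHom_eq_coe, RingHom.coe_coe, aeval_X, MvPolynomial.map_X]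
        rw [hΨB]
        have := hαβ (MvPolynomial.X i)
        simp only [a, b, RingHom.comp_apply, MvPolynomial.map_X] at this
        rw [show (aeval (R := A) t).toRingHom (MvPolynomial.X i) = t i from aeval_X t i] at this
        exact this
    have h2 := (RingHom.congr_fun h1 G).symm.trans hG
    rw [RingHom.comp_apply, RingHom.comp_apply, map_eq_zero_iff _ β.injective,
      map_eq_zero_iff _ (IsFractionRing.injective _ L)] at h2
    rw [hP'V, MvPolynomial.mem_map_C_iff]
    intro d
    rw [← IsLocalRing.residue_eq_zero_iff, ← IsLocalRing.ResidueField.algebraMap_eq, ← MvPolynomial.coeff_map]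
    show MvPolynomial.coeff d (MvPolynomial.map (algebraMap V kV) G) = 0
    rw [h2, MvPolynomial.coeff_zero]

/-- Independent elements below a point, when the morphism of spectra is universally open. -/
theorem exists_indepMod_below_of_universallyOpen [Algebra.FiniteType A B]
    [UniversallyOpen (Spec.map (CommRingCat.ofHom (algebraMap A B)))] (P : Ideal B) [P.IsPrime]
    {n : ℕ} {t : Fin n → B} (ht : FibDim.IndepMod (A := A) t P) (Q : Ideal A) [Q.IsPrime] (hQ : Q ≤ P.under A) :
    ∃ R : Ideal B, R.IsPrime ∧ R ≤ P ∧ R.under A = Q ∧ FibDim.IndepMod (A := A) t R := by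
  let p := P.under A
  let L := Q.ResidueField
  let g : Localization.AtPrime p →+* L := IsLocalization.lift (M := p.primeCompl) (g := algebraMap A L) fun s =>
    (show algebraMap A L s.1 ≠ 0 from fun h0 => s.2 (hQ (Ideal.algebraMap_residueField_eq_zero.1 h0))).isUnit
  obtain ⟨V, hV, hloc⟩ := IsLocalRing.exists_factor_valuationRing g
  haveI : IsLocalRing V.toSubring := inferInstanceAs (IsLocalRing V)
  let σ : A →+* V.toSubring := (g.codRestrict V.toSubring hV).comp (algebraMap A _)
  letI : Algebra A V := σ.toAlgebra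
  have hσ : ∀ c, ((algebraMap A V c : V) : L) = algebraMap A L c := fun c => IsLocalization.lift_eq _ c
  have hσp : (IsLocalRing.maximalIdeal V).comap (algebraMap A V) = p := by
    show (IsLocalRing.maximalIdeal V.toSubring).comap ((g.codRestrict V.toSubring hV).comp (algebraMap A _)) = p
    have h5 : (IsLocalRing.maximalIdeal V.toSubring).comap (g.codRestrict V.toSubring hV) =
        IsLocalRing.maximalIdeal (Localization.AtPrime p) := ((IsLocalRing.local_hom_TFAE _).out 0 4).1 hloc
    rw [← Ideal.comap_comap, h5]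
    exact IsLocalization.AtPrime.comap_maximalIdeal _ p
  have hσQ : RingHom.ker (algebraMap A V) = Q := by
    ext c
    rw [RingHom.mem_ker, ← Ideal.algebraMap_residueField_eq_zero (I := Q), ← hσ]
    exact ⟨fun h => by rw [h]; rfl, fun h => Subtype.val_injective h⟩
  obtain ⟨P', hP', hP'B, hP'V, hind⟩ := exists_indepMod_over P hσp ht
  haveI := hP'
  haveI : UniversallyOpen (Spec.map (CommRingCat.ofHom (algebraMap V (V ⊗[A] B)))) :=
    MorphismProperty.of_isPullback
      (isPullback_SpecMap_of_isPushout _ _ _ _ (CommRingCat.isPushout_tensorProduct A V B)).flip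
      (inferInstanceAs (UniversallyOpen (Spec.map (CommRingCat.ofHom (algebraMap A B)))))
  let φ := Spec.map (CommRingCat.ofHom (algebraMap V (V ⊗[A] B)))
  haveI : LocallyOfFiniteType φ := (HasRingHomProperty.Spec_iff (P := @LocallyOfFiniteType)).2
    (RingHom.finiteType_algebraMap.2 inferInstance)
  let x : Spec (CommRingCat.of (V ⊗[A] B)) := (⟨P', hP'⟩ : PrimeSpectrum (V ⊗[A] B))
  let η : Spec (CommRingCat.of V) := (⟨⊥, Ideal.isPrime_bot⟩ : PrimeSpectrum V)
  obtain ⟨ζ, hζ, hζη⟩ := FibDim.exists_generization_of_isOpenAt φ (x := x)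
    (fun U hU => φ.isOpenMap.image_mem_nhds hU)
    (show η ⤳ φ x from (PrimeSpectrum.le_iff_specializes (⟨⊥, Ideal.isPrime_bot⟩ : PrimeSpectrum V)
      (φ x : PrimeSpectrum V)).1 bot_le)
  let R' := (ζ : PrimeSpectrum (V ⊗[A] B)).asIdeal
  haveI : R'.IsPrime := (ζ : PrimeSpectrum (V ⊗[A] B)).isPrime
  have hR'P : R' ≤ P' :=
    (PrimeSpectrum.le_iff_specializes (ζ : PrimeSpectrum (V ⊗[A] B)) (⟨P', hP'⟩ : PrimeSpectrum (V ⊗[A] B))).2 hζ
  have hR'V : R'.under V = ⊥ := congrArg PrimeSpectrum.asIdeal hζη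
  have hindR := FibDim.indepMod_of_valuationRing hR'P hR'V hind
  let ρ : B →ₐ[A] V ⊗[A] B := Algebra.TensorProduct.includeRight
  refine ⟨R'.comap ρ.toRingHom, inferInstance, (Ideal.comap_mono hR'P).trans hP'B.le, ?_, fun G hG => ?_⟩
  · ext c
    show ρ (algebraMap A B c) ∈ R' ↔ c ∈ Q
    refine Iff.trans ?_ (SetLike.ext_iff.1 hσQ c)
    rw [ρ.commutes, IsScalarTower.algebraMap_apply A V (V ⊗[A] B), RingHom.mem_ker, ← Ideal.mem_bot, ← hR'V]
    rfl
  · have h1 : aeval (fun i => (1 : V) ⊗ₜ[A] t i) (MvPolynomial.map (algebraMap A V) G) = ρ (aeval t G) := by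
      rw [aeval_map_algebraMap, ← AlgHom.comp_apply, MvPolynomial.comp_aeval]
      rfl
    have h2 := hindR _ (h1 ▸ hG : aeval (fun i => (1 : V) ⊗ₜ[A] t i) (MvPolynomial.map (algebraMap A V) G) ∈ R')
    rw [hR'V, Ideal.map_bot, Ideal.mem_bot, MvPolynomial.ext_iff] at h2
    rw [MvPolynomial.mem_map_C_iff]
    intro d
    show ρ (algebraMap A B (G.coeff d)) ∈ R'
    rw [ρ.commutes, IsScalarTower.algebraMap_apply A V (V ⊗[A] B), ← MvPolynomial.coeff_map, h2 d,
      MvPolynomial.coeff_zero, map_zero]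
    exact R'.zero_mem

/-- EGA IV 14.2.1 for universally open morphisms, over an arbitrary base. -/
theorem exists_generization_rd_ge_of_universallyOpen {X Y : Scheme.{u}} (f : X ⟶ Y) [LocallyOfFiniteType f]
    [UniversallyOpen f] {x : X} {y' : Y} (hy : y' ⤳ f x) :
    ∃ ζ, ζ ⤳ x ∧ f ζ = y' ∧ FibDim.rd f x ≤ FibDim.rd f ζ := by
  obtain ⟨V, hV, hxV, -⟩ := exists_isAffineOpen_mem_and_subset (x := f x) (U := ⊤) trivial
  obtain ⟨U, hU, hxU, hUV⟩ := exists_isAffineOpen_mem_and_subset (x := x) (U := f ⁻¹ᵁ V) hxV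
  letI : Algebra Γ(Y, V) Γ(X, U) := (f.appLE V U hUV).hom.toAlgebra
  haveI : Algebra.FiniteType Γ(Y, V) Γ(X, U) := f.finiteType_appLE hV hU hUV
  haveI : UniversallyOpen (Spec.map (CommRingCat.ofHom (algebraMap Γ(Y, V) Γ(X, U)))) := by
    show UniversallyOpen (Spec.map (f.appLE V U hUV))
    have sq : IsPullback (𝟙 (Spec Γ(X, U))) (Spec.map (f.appLE V U hUV)) (hU.fromSpec ≫ f) hV.fromSpec := by
      rw [← IsAffineOpen.SpecMap_appLE_fromSpec f hV hU hUV]
      simpa using (IsPullback.of_id_fst (f := Spec.map (f.appLE V U hUV))).paste_vert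
        (IsKernelPair.id_of_mono hV.fromSpec)
    exact MorphismProperty.of_isPullback (P := @UniversallyOpen) sq inferInstance
  obtain ⟨P, rfl⟩ := VarDim.exists_fromSpec_eq hU hxU
  obtain ⟨Q, rfl⟩ := VarDim.exists_fromSpec_eq hV (hy.mem_open V.isOpen hxV)
  have hQ : Q.asIdeal ≤ P.asIdeal.under Γ(Y, V) := by
    rw [FibDim.fromSpec_comm f hV hU hUV] at hy
    exact (VarDim.fromSpec_specializes_iff hV _ _).1 hy
  obtain ⟨t, ht⟩ := (FibDim.le_rd_iff f hV hU hUV P _).1 le_rfl
  obtain ⟨R, hR, hRP, hRA, htR⟩ := exists_indepMod_below_of_universallyOpen P.asIdeal ht Q.asIdeal hQ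
  refine ⟨hU.fromSpec ⟨R, hR⟩, (VarDim.fromSpec_specializes_iff hU _ _).2 hRP, ?_,
    (FibDim.le_rd_iff f hV hU hUV ⟨R, hR⟩ _).2 ⟨t, htR⟩⟩
  rw [FibDim.fromSpec_comm f hV hU hUV]
  exact congrArg hV.fromSpec (PrimeSpectrum.ext hRA)

end Groth.Agent.UnivOpen
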