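import Groth.Agent.UnivOpen.Normal.Equidim
import Groth.Agent.UnivOpen.Normal.GenerizeRd
import Groth.Agent.UnivOpen.Unibranch
import Groth.Agent.FibDim.GenerizeDim
import Groth.Agent.FibDim.FlatBC
import Groth.Agent.FibDim.AffineSpaceFibre

/-!
# Quasi-finite morphisms to affine space over a base, at points where the projection is universally open
-/

set_option autoImplicit false
set_option linter.style.haveILetI false

open AlgebraicGeometry CategoryTheory Limits Topology

namespace Groth.Agent.UnivOpen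

universe u

/-- A quasi-finite dominant morphism from an integral scheme to the spectrum of a normal domain is
universally open. -/
theorem isUnivOpenAt_of_normal_target {P : Type u} [CommRing P] [IsDomain P] [IsIntegrallyClosed P]
    {W : Scheme.{u}} [IsIntegral W] (g : W ⟶ Spec (CommRingCat.of P)) [LocallyOfFiniteType g]
    [LocallyQuasiFinite g]
    (hdom : ∀ t, g (genericPoint W) ⤳ t) (w : W) : EGA43.IsUnivOpenAt g w := by
  obtain ⟨U, hU, hwU, -⟩ := exists_isAffineOpen_mem_and_subset (x := w) (U := ⊤) trivial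
  haveI : Nonempty U := ⟨⟨w, hwU⟩⟩
  let φ := Spec.preimage (hU.fromSpec ≫ g)
  have hφ : Spec.map φ = hU.fromSpec ≫ g := Spec.map_preimage _
  haveI : LocallyQuasiFinite (Spec.map φ) := by rw [hφ]; infer_instance
  haveI : LocallyOfFiniteType (Spec.map φ) := by rw [hφ]; infer_instance
  letI : Algebra P Γ(W, U) := φ.hom.toAlgebra
  have hqf' : φ.hom.QuasiFinite := (HasRingHomProperty.Spec_iff (P := @LocallyQuasiFinite)).1 ‹_›
  have hft' : φ.hom.FiniteType := (HasRingHomProperty.Spec_iff (P := @LocallyOfFiniteType)).1 ‹_›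
  haveI : Algebra.QuasiFinite P Γ(W, U) := hqf'
  haveI : Algebra.FiniteType P Γ(W, U) := hft'
  have hinj : Function.Injective (algebraMap P Γ(W, U)) := by
    let η : Spec Γ(W, U) := (⟨⊥, Ideal.isPrime_bot⟩ : PrimeSpectrum Γ(W, U))
    have hη : hU.fromSpec η = genericPoint W := by
      rw [show η = genericPoint (Spec Γ(W, U)) from (genericPoint_eq_bot_of_affine _).symm]
      exact genericPoint_eq_of_isOpenImmersion hU.fromSpec
    have h1 : Spec.map φ η ⤳ ((⟨⊥, Ideal.isPrime_bot⟩ : PrimeSpectrum P) : Spec (CommRingCat.of P)) := by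
      rw [show Spec.map φ η = g (genericPoint W) by rw [← hη, hφ]; rfl]
      exact hdom _
    have h2 := (PrimeSpectrum.le_iff_specializes (Spec.map φ η : PrimeSpectrum P) ⟨⊥, Ideal.isPrime_bot⟩).2 h1
    exact (injective_iff_map_eq_zero _).2 fun a ha => Ideal.mem_bot.1 (h2 (show φ.hom a ∈ (⊥ : Ideal Γ(W, U)) from ha))
  let q := (hU.primeIdealOf ⟨w, hwU⟩).asIdeal
  obtain ⟨r, hrq, hbij⟩ := Algebra.ZariskisMainProperty.of_finiteType (R := P) q
  let C := integralClosure P Γ(W, U)
  haveI := universallyOpen_Spec_of_normal (D := P) (E := C) fun a b hab => hinj (congrArg Subtype.val hab)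
  let e : Localization.Away r ≃+* Localization.Away r.1 := RingEquiv.ofBijective _ hbij
  let jr := Spec.map (CommRingCat.ofHom (algebraMap Γ(W, U) (Localization.Away r.1)))
  haveI hopen : UniversallyOpen (jr ≫ hU.fromSpec ≫ g) := by
    haveI : IsIso (CommRingCat.ofHom e.toRingHom) := (ConcreteCategory.isIso_iff_bijective _).2 e.bijective
    haveI := IsOpenImmersion.of_isLocalization (S := Localization.Away r) r
    have h1 : φ ≫ CommRingCat.ofHom (algebraMap Γ(W, U) (Localization.Away r.1)) =
        CommRingCat.ofHom (algebraMap P C) ≫ CommRingCat.ofHom (algebraMap C (Localization.Away r)) ≫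
          CommRingCat.ofHom e.toRingHom := by
      refine CommRingCat.hom_ext (RingHom.ext fun a => ?_)
      show _ = Localization.awayMap C.val.toRingHom r (algebraMap C (Localization.Away r) (algebraMap P C a))
      rw [Localization.awayMap, IsLocalization.Away.map, IsLocalization.map_eq]
      rfl
    rw [← hφ, ← Spec.map_comp, h1, Spec.map_comp, Spec.map_comp]
    infer_instance
  obtain ⟨v, hv⟩ : hU.primeIdealOf ⟨w, hwU⟩ ∈ Set.range jr := by
    rw [show Set.range jr = Set.range (PrimeSpectrum.comap (algebraMap Γ(W, U) (Localization.Away r.1))) from rfl,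
      PrimeSpectrum.localization_away_comap_range (Localization.Away r.1) r.1]
    exact hrq
  have h2 := QHomeo.univOpenAt_of_comp (QHomeo.univOpenAt_of_comp ((universallyOpen_iff_forall _).1 hopen v))
  rwa [hv, hU.fromSpec_primeIdealOf] at h2

variable {X S : Scheme.{u}} {n : ℕ} (u : X ⟶ 𝔸(ULift.{u} (Fin n); S)) [LocallyOfFiniteType u] [LocallyQuasiFinite u]

/-- Lifting along a valuation ring mapping to affine space. -/
theorem exists_lift_valuation {f : X ⟶ S} [LocallyOfFiniteType f]
    (hu : u ≫ (𝔸(ULift.{u} (Fin n); S) ↘ S) = f) {x z : X} (hzx : z ⤳ x) (hfz : f z = f x)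
    (hzm : FibDim.FibMax f z) (hzr : FibDim.rd f z = n) (hopen : EGA43.IsUnivOpenAt f z)
    {V : Type u} [CommRing V] [IsDomain V] [ValuationRing V]
    (h : Spec (CommRingCat.of V) ⟶ 𝔸(ULift.{u} (Fin n); S))
    {W₀ : Scheme.{u}} {p : W₀ ⟶ X} {q : W₀ ⟶ Spec (CommRingCat.of V)} (H : IsPullback p q u h)
    (x' : W₀) (hx' : p x' = x) {η : Spec (CommRingCat.of V)} (hη : ∀ t, η ⤳ t) :
    ∃ ζ, ζ ⤳ x' ∧ q ζ = η := by
  let σ := ULift.{u} (Fin n)
  let π := (𝔸(σ; S) ↘ S)
  let a := h ≫ π
  let πV := (𝔸(σ; Spec (CommRingCat.of V)) ↘ Spec (CommRingCat.of V))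
  have hmap := AffineSpace.isPullback_map (n := σ) a
  have hfst : (pullback.fst f a ≫ u) ≫ π = pullback.snd f a ≫ a := by
    rw [Category.assoc, hu, pullback.condition]
  let uV : pullback f a ⟶ 𝔸(σ; Spec (CommRingCat.of V)) := hmap.lift (pullback.fst f a ≫ u) (pullback.snd f a) hfst
  have huV : uV ≫ πV = pullback.snd f a := hmap.lift_snd _ _ _
  let sec : Spec (CommRingCat.of V) ⟶ 𝔸(σ; Spec (CommRingCat.of V)) := hmap.lift h (𝟙 _) (Category.id_comp a).symm
  have hsec : sec ≫ πV = 𝟙 _ := hmap.lift_snd _ _ _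
  have hk : p ≫ f = q ≫ a := by rw [← hu, ← Category.assoc, H.w, Category.assoc]
  let k : W₀ ⟶ pullback f a := pullback.lift p q hk
  have sqX : IsPullback (pullback.fst f a) uV u (AffineSpace.map σ a) := by
    refine IsPullback.of_bot ?_ (hmap.lift_fst _ _ _).symm hmap
    rw [huV, hu]
    exact IsPullback.of_hasPullback f a
  have sqW : IsPullback k q uV sec := by
    refine IsPullback.of_right ?_ ?_ sqX
    · rw [pullback.lift_fst, hmap.lift_fst]
      exact H
    · refine hmap.hom_ext ?_ ?_
      · rw [Category.assoc, Category.assoc, hmap.lift_fst, hmap.lift_fst, pullback.lift_fst_assoc, H.w]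
      · rw [Category.assoc, Category.assoc, huV, hsec, pullback.lift_snd, Category.comp_id]
  haveI : LocallyQuasiFinite uV := MorphismProperty.of_isPullback sqX inferInstance
  haveI : LocallyOfFiniteType uV := MorphismProperty.of_isPullback sqX inferInstance
  let qV := pullback.snd f a
  let xV := k x'
  have hpxV : pullback.fst f a xV = x := by
    rw [← Scheme.Hom.comp_apply, pullback.lift_fst, hx']
  -- a maximal point of the fibre through `xV` over `z`
  obtain ⟨w, ⟨hwz, hwq⟩, hwxV⟩ : ∃ w, (pullback.fst f a w = z ∧ qV w = qV xV) ∧ w ⤳ xV := by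
    let c := qV xV
    have sqc : IsPullback (qV.fiberι c ≫ pullback.fst f a) (qV.fiberToSpecResidueField c) f
        ((Spec (CommRingCat.of V)).fromSpecResidueField c ≫ a) :=
      (IsPullback.of_hasPullback qV _).paste_horiz (IsPullback.of_hasPullback f a)
    let v := qV.asFiber xV
    have hv : qV.fiberι c v = xV := Scheme.Hom.fiberι_asFiber _ _
    obtain ⟨w, hw, hwb⟩ := FibDim.exists_generization_lift sqc.flip (x' := v) (b := z)
      (by rw [Scheme.Hom.comp_apply, hv, hpxV]; exact hzx) (by rw [Scheme.Hom.comp_apply, hv, hpxV]; exact hfz)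
    refine ⟨qV.fiberι c w, ⟨by rw [← Scheme.Hom.comp_apply]; exact hwb, FibDim.fiber_apply_fiberι qV w⟩, ?_⟩
    have := hw.map (qV.fiberι c).continuous
    rwa [hv] at this
  obtain ⟨zV, hzV, hqzV, hzVm, -⟩ := FibDim.exists_fibMax_generization qV w
  have hpzV : pullback.fst f a zV = z := by
    refine hzm _ ((hzV.map (pullback.fst f a).continuous).trans (specializes_of_eq hwz)) ?_
    show (pullback.fst f a ≫ f) zV = f z
    rw [pullback.condition, Scheme.Hom.comp_apply, show pullback.snd f a zV = qV zV from rfl, hqzV,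
      ← Scheme.Hom.comp_apply, ← pullback.condition, Scheme.Hom.comp_apply, hwz]
  haveI : LocallyOfFiniteType qV := inferInstanceAs (LocallyOfFiniteType (pullback.snd f a))
  have hrd : FibDim.rd qV zV = n := by
    rw [FibDim.rd_baseChange_eq_of_minimal (IsPullback.of_hasPullback f a) zV (fun t ht _ hqt => hzVm t ht hqt),
      hpzV, hzr]
  -- a component of `pullback f a` through `zV` of relative dimension `n` over the generic point
  obtain ⟨ζ, hζ, hζη⟩ := FibDim.exists_generization_of_isOpenAt qV (hopen _ a zV hpzV) (y' := η) (hη _)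
  obtain ⟨η', hη', hmax⟩ := FibDim.exists_maximal_generization ζ
  have hqη : qV η' = η := ((hη (qV η')).antisymm ((hη'.map qV.continuous).trans (specializes_of_eq hζη))).eq.symm
  have hle : ∀ t, FibDim.rd qV t ≤ n := fun t => by
    rw [show qV = uV ≫ πV from huV.symm, FibDim.rd_comp uV πV, FibDim.rd_eq_zero_of_quasiFinite uV, add_zero]
    exact FibDim.rd_affineSpace_le n _
  have hrη : FibDim.rd qV η' = n := by
    refine le_antisymm (hle _) (hrd.symm.le.trans ?_)
    refine le_trans ?_ (FibDim.rd_le_of_specializes qV hη' (hqη.trans hζη.symm))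
    exact FibDim.rd_le_of_valuationRing qV hζ fun t => hζη ▸ hη t
  let e := AffineSpace.SpecIso σ (CommRingCat.of V)
  -- the component
  let Wc : TopologicalSpace.Closeds ↥(pullback f a) := ⟨closure {η'}, isClosed_closure⟩
  let j := (Scheme.IdealSheafData.vanishingIdeal Wc).subschemeι
  have hrange : Set.range j = closure {η'} := DimFormula.range_vanishingIdeal Wc
  haveI : IsReduced (Scheme.IdealSheafData.vanishingIdeal Wc).subscheme := H23.RedSub.isReduced_vanishingIdeal Wc
  haveI : IrreducibleSpace ↥(Scheme.IdealSheafData.vanishingIdeal Wc).subscheme := by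
    haveI : IrreducibleSpace ↥(Set.range j) := by
      rw [hrange]; exact Subtype.irreducibleSpace isIrreducible_singleton.closure
    exact j.isClosedEmbedding.isEmbedding.toHomeomorph.symm.surjective.irreducibleSpace
      j.isClosedEmbedding.isEmbedding.toHomeomorph.symm.continuous
  haveI : IsIntegral (Scheme.IdealSheafData.vanishingIdeal Wc).subscheme :=
    isIntegral_of_irreducibleSpace_of_isReduced _
  obtain ⟨g', hg'⟩ : η' ∈ Set.range j := by rw [hrange]; exact subset_closure rfl
  have hgen : ∀ t, g' ⤳ t := fun t => j.isClosedEmbedding.isInducing.specializes_iff.1 <| by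
    rw [hg', specializes_iff_mem_closure, ← hrange]
    exact ⟨t, rfl⟩
  obtain ⟨w', hw'⟩ : xV ∈ Set.range j := by
    rw [hrange]
    exact specializes_iff_mem_closure.1 (((hη'.trans hζ).trans hzV).trans hwxV)
  have hdom : ∀ t, ((j ≫ uV) ≫ e.hom) (genericPoint _) ⤳ t := by
    intro t
    rw [show genericPoint _ = g' from ((hgen _).antisymm ((genericPoint_spec _).specializes (Set.mem_univ g'))).eq.symm]
    have hb0 : ∀ b, b ⤳ uV η' → b = uV η' := fun b hb => by
      by_contra hne
      have h1 : πV b = πV (uV η') := by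
        have h2 : πV (uV η') = η := by rw [← Scheme.Hom.comp_apply, huV]; exact hqη
        rw [h2]
        exact (((hb.map πV.continuous).trans (specializes_of_eq h2)).antisymm (hη _)).eq
      have h3 := FibDim.rd_lt πV hb hne h1
      have h4 : FibDim.rd qV η' = FibDim.rd πV (uV η') := by
        rw [show qV = uV ≫ πV from huV.symm, FibDim.rd_comp uV πV, FibDim.rd_eq_zero_of_quasiFinite uV, add_zero]
      have h5 := FibDim.rd_affineSpace_le n b
      rw [hrη] at h4
      change FibDim.rd πV b ≤ n at h5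
      omega
    let t₀ : Spec (CommRingCat.of (MvPolynomial σ V)) := (⟨⊥, Ideal.isPrime_bot⟩ : PrimeSpectrum (MvPolynomial σ V))
    have ht₀ : t₀ ⤳ t := (PrimeSpectrum.le_iff_specializes (⟨⊥, Ideal.isPrime_bot⟩ : PrimeSpectrum (MvPolynomial σ V))
      (t : PrimeSpectrum (MvPolynomial σ V))).1 bot_le
    have h6 : e.inv t₀ ⤳ uV η' := by
      have := ((PrimeSpectrum.le_iff_specializes (⟨⊥, Ideal.isPrime_bot⟩ : PrimeSpectrum (MvPolynomial σ V))
        (e.hom (uV η') : PrimeSpectrum (MvPolynomial σ V))).1 bot_le).map e.inv.continuous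
      rwa [show e.inv (e.hom (uV η')) = uV η' by rw [← Scheme.Hom.comp_apply, Iso.hom_inv_id]; rfl] at this
    rw [Scheme.Hom.comp_apply, Scheme.Hom.comp_apply, hg', ← hb0 _ h6, ← Scheme.Hom.comp_apply, Iso.inv_hom_id]
    exact ht₀
  haveI : IsIntegrallyClosed (MvPolynomial σ V) := isIntegrallyClosed_mvPolynomial V σ
  have hop := isUnivOpenAt_of_normal_target ((j ≫ uV) ≫ e.hom) hdom w'
  have hop2 : EGA43.IsOpenAt uV.base xV := by
    have h1 : EGA43.IsUnivOpenAt ((j ≫ uV) ≫ e.hom ≫ e.inv) w' := by
      rw [← Category.assoc]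
      exact QHomeo.univOpenAt_comp hop ((universallyOpen_iff_forall e.inv).1 inferInstance _)
    rw [Iso.hom_inv_id, Category.comp_id] at h1
    exact isOpenAt_of_isUnivOpenAt (hw' ▸ QHomeo.univOpenAt_of_comp h1)
  obtain ⟨θ, hθ, hθη⟩ := FibDim.exists_generization_of_isOpenAt uV hop2 (y' := sec η) (by
    rw [show uV xV = sec (q x') by rw [← Scheme.Hom.comp_apply, sqW.w]; rfl]
    exact (hη _).map sec.continuous)
  obtain ⟨r, hr1, hr2⟩ := Scheme.Pullback.exists_preimage_pullback (f := uV) (g := sec) θ η hθη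
  haveI : IsImmersion sec := by
    haveI : IsImmersion (sec ≫ πV) := by rw [hsec]; infer_instance
    exact IsImmersion.of_comp sec πV
  haveI : IsImmersion k := MorphismProperty.of_isPullback sqW.flip inferInstance
  refine ⟨sqW.isoPullback.inv r, k.isEmbedding.isInducing.specializes_iff.1 ?_, ?_⟩
  · rw [← Scheme.Hom.comp_apply, sqW.isoPullback_inv_fst, hr1]
    exact hθ
  · rw [← Scheme.Hom.comp_apply, sqW.isoPullback_inv_snd, hr2]

/-- SGA 3 VI_B 4.1: a locally quasi-finite morphism to affine space is universally open where the fibre has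
full dimension and the projection is universally open at its generic point. -/
theorem isUnivOpenAt_affineSpace_of_generic {f : X ⟶ S} [LocallyOfFiniteType f] [LocallyOfFinitePresentation u]
    (hu : u ≫ (𝔸(ULift.{u} (Fin n); S) ↘ S) = f) {x z : X} (hzx : z ⤳ x) (hfz : f z = f x)
    (hzm : FibDim.FibMax f z) (hzr : FibDim.rd f z = n) (hopen : EGA43.IsUnivOpenAt f z) :
    EGA43.IsUnivOpenAt u x := by
  refine isUnivOpenAt_of_affineSpace u x fun m x₁ hx₁ => isOpenAt_of_lifts_fp _ x₁ fun t ht => ?_
  let πm := (𝔸(ULift.{u} (Fin m); 𝔸(ULift.{u} (Fin n); S)) ↘ 𝔸(ULift.{u} (Fin n); S))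
  by_cases hne : pullback.snd u πm x₁ = t
  · exact ⟨x₁, specializes_rfl, hne⟩
  obtain ⟨A, _, _, _, τ, pt, η, hpt, hη, hgen⟩ := FibDim.exists_valuation_lift ht hne
  obtain ⟨x', hx'1, -⟩ := Scheme.Pullback.exists_preimage_pullback (f := pullback.snd u πm) (g := τ) x₁ pt hpt.symm
  have H : IsPullback (pullback.fst (pullback.snd u πm) τ ≫ pullback.fst u πm) (pullback.snd (pullback.snd u πm) τ) u
      (τ ≫ πm) :=
    (IsPullback.of_hasPullback _ τ).paste_horiz (IsPullback.of_hasPullback u πm)
  obtain ⟨ζ, hζ, hζη⟩ := exists_lift_valuation u hu hzx hfz hzm hzr hopen (τ ≫ πm) H x'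
    (by rw [Scheme.Hom.comp_apply, hx'1]; exact hx₁) hgen
  refine ⟨pullback.fst (pullback.snd u πm) τ ζ, ?_, ?_⟩
  · rw [← hx'1]
    exact hζ.map (pullback.fst (pullback.snd u πm) τ).continuous
  · rw [← Scheme.Hom.comp_apply, pullback.condition, Scheme.Hom.comp_apply, hζη, hη]

end Groth.Agent.UnivOpen
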