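import Groth.Agent.UnivOpen.Normal.Homeo
import Groth.Agent.UnivOpen.Chevalley

/-!
# Equidimensional morphisms over geometrically unibranch bases with finitely many components

EGA IV 14.4.4 without Noetherian hypotheses: a morphism of finite type from an integral scheme which is
equidimensional at a point is universally open near it.
-/

set_option autoImplicit false
set_option linter.style.haveILetI false

open AlgebraicGeometry CategoryTheory Limits Topology

namespace Groth.Agent.UnivOpen

universe u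

/-- Over a unibranch point of a scheme with finitely many components the base is locally irreducible. -/
theorem exists_affine_nilradical_isPrime {S : Scheme.{u}} (hfin : (irreducibleComponents (S : Type u)).Finite)
    (s : S) (hs : CAlg2.IsUnibranch (S.presheaf.stalk s)) :
    ∃ V : S.Opens, IsAffineOpen V ∧ s ∈ V ∧ (nilradical Γ(S, V)).IsPrime := by
  let T : Set (Set S) := {Z ∈ irreducibleComponents (S : Type u) | s ∉ Z}
  have hT : IsClosed (⋃₀ T) := by
    rw [Set.sUnion_eq_biUnion]
    exact (hfin.subset fun Z hZ => hZ.1).isClosed_biUnion fun Z hZ => isClosed_of_mem_irreducibleComponents _ hZ.1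
  obtain ⟨V, hV, hsV, hsub⟩ := exists_isAffineOpen_mem_and_subset (x := s)
    (U := ⟨(⋃₀ T)ᶜ, hT.isOpen_compl⟩) (fun ⟨Z, hZ, hsZ⟩ => hZ.2 hsZ)
  obtain ⟨a, ha, ham⟩ := FibDim.exists_maximal_generization s
  have haV : a ∈ V := ha.mem_open V.isOpen hsV
  have hall : ∀ b ∈ V, a ⤳ b := fun b hb => by
    obtain ⟨c, hc, hcm⟩ := FibDim.exists_maximal_generization b
    suffices hcs : c ⤳ s by rwa [maximal_unique hs ha ham hcs hcm]
    rw [specializes_iff_mem_closure]
    by_contra hne
    exact hsub hb ⟨closure {c}, ⟨FDescent.closure_mem_irreducibleComponents hcm, hne⟩,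
      specializes_iff_mem_closure.1 hc⟩
  refine ⟨V, hV, hsV, ?_⟩
  let p₀ := hV.primeIdealOf ⟨a, haV⟩
  suffices h : nilradical Γ(S, V) = p₀.asIdeal from h ▸ p₀.isPrime
  refine le_antisymm (nilradical_le_prime _ (H := p₀.isPrime)) ?_
  rw [nilradical_eq_sInf]
  refine le_sInf fun q hq => ?_
  haveI : q.IsPrime := hq
  refine (PrimeSpectrum.le_iff_specializes p₀ (⟨q, hq⟩ : PrimeSpectrum Γ(S, V))).2 ?_
  refine hV.fromSpec.isOpenEmbedding.isInducing.specializes_iff.1 ?_
  rw [show hV.fromSpec p₀ = a from hV.fromSpec_primeIdealOf ⟨a, haV⟩]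
  exact hall _ (hV.range_fromSpec.le (Set.mem_range_self _))

/-- The reduced localizations of a geometrically unibranch affine open. -/
theorem gu_localization_red {S : Scheme.{u}} (hS : ∀ s : S, CAlg2.IsGeomUnibranch (S.presheaf.stalk s))
    {V : S.Opens} (hV : IsAffineOpen V) (P : Ideal (Γ(S, V) ⧸ nilradical Γ(S, V))) [P.IsPrime] :
    GU (Localization.AtPrime P) := by
  let R := Γ(S, V)
  let A := R ⧸ nilradical R
  let p : Ideal R := P.comap (Ideal.Quotient.mk (nilradical R))
  let Lp := Localization.AtPrime p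
  let pt : Spec R := (⟨p, inferInstance⟩ : PrimeSpectrum R)
  let y : V := ⟨hV.fromSpec pt, hV.range_fromSpec.le (Set.mem_range_self pt)⟩
  letI : Algebra R (S.presheaf.stalk y.1) := (S.presheaf.germ V y.1 y.2).hom.toAlgebra
  haveI : IsLocalization.AtPrime (S.presheaf.stalk y.1) p := hV.isLocalization_stalk' pt y.2
  have hgu : GU (CAlg2.red Lp) := GU.of_isGeomUnibranch (isGeomUnibranch_of_ringEquiv
    (IsLocalization.algEquiv p.primeCompl (S.presheaf.stalk y.1) Lp).toRingEquiv (hS y.1))
  let ψ : A →+* CAlg2.red Lp := Ideal.Quotient.lift _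
    ((Ideal.Quotient.mk (nilradical Lp)).comp (algebraMap R Lp)) fun r hr =>
      Ideal.Quotient.eq_zero_iff_mem.2 (mem_nilradical.2 ((mem_nilradical.1 hr).map (algebraMap R Lp)))
  letI : Algebra A (CAlg2.red Lp) := ψ.toAlgebra
  have hψ : ∀ r, algebraMap A (CAlg2.red Lp) (Ideal.Quotient.mk _ r) =
      Ideal.Quotient.mk _ (algebraMap R Lp r) := fun r => rfl
  haveI : IsLocalization.AtPrime (CAlg2.red Lp) P :=
    { map_units := by
        rintro ⟨t, ht⟩
        obtain ⟨r, rfl⟩ := Ideal.Quotient.mk_surjective t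
        rw [hψ]
        exact (IsLocalization.map_units Lp (⟨r, ht⟩ : p.primeCompl)).map _
      surj := fun z => by
        obtain ⟨z, rfl⟩ := Ideal.Quotient.mk_surjective z
        obtain ⟨⟨r, t⟩, hrt⟩ := IsLocalization.surj p.primeCompl z
        refine ⟨⟨Ideal.Quotient.mk _ r, ⟨Ideal.Quotient.mk _ t.1, t.2⟩⟩, ?_⟩
        show _ * algebraMap A (CAlg2.red Lp) (Ideal.Quotient.mk _ t.1) = algebraMap A (CAlg2.red Lp) _
        rw [hψ, hψ, ← map_mul, hrt]
      exists_of_eq := fun {a b} hab => by
        obtain ⟨a, rfl⟩ := Ideal.Quotient.mk_surjective a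
        obtain ⟨b, rfl⟩ := Ideal.Quotient.mk_surjective b
        rw [hψ, hψ, Ideal.Quotient.eq, ← map_sub, mem_nilradical] at hab
        obtain ⟨n, hn⟩ := hab
        rw [← map_pow, IsLocalization.map_eq_zero_iff p.primeCompl Lp] at hn
        obtain ⟨t, ht⟩ := hn
        refine ⟨⟨Ideal.Quotient.mk _ t.1, t.2⟩, ?_⟩
        show Ideal.Quotient.mk _ t.1 * _ = Ideal.Quotient.mk _ t.1 * _
        rw [← map_mul, ← map_mul, Ideal.Quotient.eq, ← mul_sub, mem_nilradical]
        exact ⟨n + 1, by rw [mul_pow, pow_succ t.1, pow_succ (a - b)]; linear_combination (t.1 ^ n * (a - b)) * ht⟩ }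
  exact GU.of_ringEquiv (IsLocalization.algEquiv P.primeCompl (Localization.AtPrime P) (CAlg2.red Lp)).toRingEquiv hgu

/-- Zariski's Main Theorem and universal openness of integral extensions. -/
theorem exists_univOpen_away {A : Type u} [CommRing A] [IsDomain A]
    (hA : ∀ (p : Ideal A) [p.IsPrime], GU (Localization.AtPrime p)) (σ : Type u)
    {B : Type u} [CommRing B] [IsDomain B] [Algebra (MvPolynomial σ A) B]
    [Algebra.FiniteType (MvPolynomial σ A) B] [Algebra.QuasiFinite (MvPolynomial σ A) B]
    (hinj : Function.Injective (algebraMap (MvPolynomial σ A) B)) (q : Ideal B) [q.IsPrime] :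
    ∃ r : B, r ∉ q ∧ UniversallyOpen (Spec.map (CommRingCat.ofHom
      ((algebraMap B (Localization.Away r)).comp
        ((algebraMap (MvPolynomial σ A) B).comp MvPolynomial.C)))) := by
  obtain ⟨r, hrq, hbij⟩ := Algebra.ZariskisMainProperty.of_finiteType (R := MvPolynomial σ A) q
  let C := integralClosure (MvPolynomial σ A) B
  have hC := universallyOpen_Spec_of_geomUnibranch hA σ (C := C)
    fun a b hab => hinj (congrArg Subtype.val hab)
  let e : Localization.Away r ≃+* Localization.Away r.1 := RingEquiv.ofBijective _ hbij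
  refine ⟨r.1, hrq, ?_⟩
  have h1 : (algebraMap B (Localization.Away r.1)).comp
      ((algebraMap (MvPolynomial σ A) B).comp MvPolynomial.C) =
      (e.toRingHom.comp (algebraMap C (Localization.Away r))).comp
        ((algebraMap (MvPolynomial σ A) C).comp MvPolynomial.C) := by
    refine RingHom.ext fun a => ?_
    show _ = Localization.awayMap C.val.toRingHom r
      (algebraMap C (Localization.Away r) (algebraMap (MvPolynomial σ A) C (MvPolynomial.C a)))
    rw [Localization.awayMap, IsLocalization.Away.map, IsLocalization.map_eq]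
    rfl
  rw [h1]
  haveI := hC
  haveI : UniversallyOpen (Spec.map (CommRingCat.ofHom (MvPolynomial.C : A →+* MvPolynomial σ A))) := by
    haveI := universallyOpen_affineSpace (Y := Spec (CommRingCat.of A)) σ
    rw [show Spec.map (CommRingCat.ofHom (MvPolynomial.C : A →+* MvPolynomial σ A)) = _ from
      (AffineSpace.SpecIso_inv_over (n := σ) (CommRingCat.of A)).symm]
    infer_instance
  haveI : IsOpenImmersion (Spec.map (CommRingCat.ofHom (e.toRingHom.comp (algebraMap C (Localization.Away r))))) := by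
    haveI : IsIso (CommRingCat.ofHom e.toRingHom) := (ConcreteCategory.isIso_iff_bijective _).2 e.bijective
    haveI := IsOpenImmersion.of_isLocalization (S := Localization.Away r) r
    show IsOpenImmersion (Spec.map (CommRingCat.ofHom (algebraMap C (Localization.Away r)) ≫
      CommRingCat.ofHom e.toRingHom))
    rw [Spec.map_comp]
    infer_instance
  show UniversallyOpen (Spec.map
    ((CommRingCat.ofHom (MvPolynomial.C : A →+* MvPolynomial σ A) ≫
      CommRingCat.ofHom (algebraMap (MvPolynomial σ A) C)) ≫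
      CommRingCat.ofHom (e.toRingHom.comp (algebraMap C (Localization.Away r)))))
  rw [Spec.map_comp, Spec.map_comp]
  infer_instance

/-- EGA IV 14.4.4, for an integral source: universal openness near a point of equidimensionality. -/
theorem exists_univOpen_of_equidim {X S : Scheme.{u}} [IsIntegral X]
    (hS : ∀ s : S, CAlg2.IsGeomUnibranch (S.presheaf.stalk s))
    (hfin : (irreducibleComponents (S : Type u)).Finite)
    (f : X ⟶ S) [LocallyOfFiniteType f] (x : X) (hf : EGA43.IsEquidimAt f x) :
    ∃ (T : Scheme.{u}) (i : T ⟶ X), x ∈ Set.range i ∧ UniversallyOpen (i ≫ f) := by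
  obtain ⟨e, U, g, hxU, hg, hqf, hcomp⟩ := (S3386.result f x).1 hf
  haveI := hqf
  let σ := ULift.{u} (Fin e)
  let π := (𝔸(σ; S) ↘ S)
  haveI : LocallyOfFiniteType g := by
    haveI : LocallyOfFiniteType (g ≫ π) := by rw [hg]; infer_instance
    exact locallyOfFiniteType_of_comp g π
  let x' : (U : Scheme.{u}) := ⟨x, hxU⟩
  haveI : Nonempty (U : Scheme.{u}) := ⟨x'⟩
  haveI : IsIntegral (U : Scheme.{u}) := isIntegral_of_isOpenImmersion U.ι
  obtain ⟨V, hV, hxV, hprime⟩ := exists_affine_nilradical_isPrime hfin (f x) (hS (f x)).1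
  let R := Γ(S, V)
  let P := MvPolynomial σ R
  let ι' : Spec (CommRingCat.of P) ⟶ 𝔸(σ; S) := (AffineSpace.SpecIso σ R).inv ≫ AffineSpace.map σ hV.fromSpec
  haveI : IsOpenImmersion (AffineSpace.map σ hV.fromSpec) :=
    MorphismProperty.of_isPullback (AffineSpace.isPullback_map hV.fromSpec).flip inferInstance
  have hι'π : ι' ≫ π = Spec.map (CommRingCat.ofHom MvPolynomial.C) ≫ hV.fromSpec := by
    simp only [ι', π, Category.assoc, AffineSpace.map_over, AffineSpace.SpecIso_inv_over_assoc]
  have hrange : Set.range ι' = π ⁻¹' (V : Set S) := by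
    rw [← hV.range_fromSpec]
    rw [show Set.range ι' = Set.range (AffineSpace.map σ hV.fromSpec) by
      rw [Scheme.Hom.comp_base, TopCat.coe_comp, Set.range_comp,
        ((AffineSpace.SpecIso σ R).inv.surjective).range_eq, Set.image_univ]]
    have hsq := (AffineSpace.isPullback_map (n := σ) hV.fromSpec)
    rw [← hsq.isoPullback_hom_fst, Scheme.Hom.comp_base, TopCat.coe_comp, Set.range_comp,
      hsq.isoPullback.hom.surjective.range_eq, Set.image_univ, Scheme.Pullback.range_fst]
  have hgx : g x' ∈ π ⁻¹ᵁ V := by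
    show (g ≫ π) x' ∈ V
    rw [hg]
    exact hxV
  obtain ⟨U₁, hU₁, hxU₁, hsub⟩ := exists_isAffineOpen_mem_and_subset (x := x') (U := g ⁻¹ᵁ (π ⁻¹ᵁ V)) hgx
  let B := Γ((U : Scheme.{u}), U₁)
  haveI : Nonempty U₁ := ⟨⟨x', hxU₁⟩⟩
  haveI : IsDomain B := inferInstance
  have hr : Set.range (hU₁.fromSpec ≫ g) ⊆ Set.range ι' := by
    rintro _ ⟨z, rfl⟩
    rw [hrange]
    exact hsub (hU₁.range_fromSpec.le (Set.mem_range_self z))
  let g' := IsOpenImmersion.lift ι' (hU₁.fromSpec ≫ g) hr
  let φ := Spec.preimage g'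
  have hφg : Spec.map φ ≫ ι' = hU₁.fromSpec ≫ g := by
    rw [Spec.map_preimage]; exact IsOpenImmersion.lift_fac _ _ _
  haveI : LocallyQuasiFinite (Spec.map φ) := by
    haveI : LocallyQuasiFinite (Spec.map φ ≫ ι') := by rw [hφg]; infer_instance
    exact LocallyQuasiFinite.of_comp _ ι'
  haveI : LocallyOfFiniteType (Spec.map φ) := by
    haveI : LocallyOfFiniteType (Spec.map φ ≫ ι') := by rw [hφg]; infer_instance
    exact locallyOfFiniteType_of_comp _ ι'
  have hφqf : φ.hom.QuasiFinite := (HasRingHomProperty.Spec_iff (P := @LocallyQuasiFinite)).1 inferInstance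
  have hφft : φ.hom.FiniteType := (HasRingHomProperty.Spec_iff (P := @LocallyOfFiniteType)).1 inferInstance
  -- the kernel of `φ` is the nilradical
  let A := R ⧸ nilradical R
  haveI : IsDomain A := Ideal.Quotient.isDomain _
  let mk : P →+* MvPolynomial σ A := MvPolynomial.map (Ideal.Quotient.mk (nilradical R))
  have hmk : Function.Surjective mk := MvPolynomial.map_surjective _ Ideal.Quotient.mk_surjective
  have hmknil : ∀ G, mk G = 0 → IsNilpotent G := fun G hG => MvPolynomial.isNilpotent_iff.2 fun i => by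
    rw [← mem_nilradical, ← Ideal.Quotient.eq_zero_iff_mem, ← MvPolynomial.coeff_map]
    show MvPolynomial.coeff i (mk G) = 0
    rw [hG, MvPolynomial.coeff_zero]
  have hker : ∀ G, φ.hom G = 0 → mk G = 0 := by
    have h1 : closure (g '' closure {genericPoint ↥(U : Scheme.{u})}) ∈ irreducibleComponents ↥𝔸(σ; S) := by
      rw [(genericPoint_spec ↥(U : Scheme.{u})).def]
      exact hcomp _ ((irreducibleComponents_eq_singleton (X := ↥(U : Scheme.{u}))).symm ▸ Set.mem_singleton _)
    rw [closure_image_closure g.continuous] at h1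
    erw [Set.image_singleton] at h1
    let η : Spec B := (⟨⊥, Ideal.isPrime_bot⟩ : PrimeSpectrum B)
    have hη : hU₁.fromSpec η = genericPoint ↥(U : Scheme.{u}) := by
      rw [show η = genericPoint (Spec B) from (genericPoint_eq_bot_of_affine B).symm]
      exact genericPoint_eq_of_isOpenImmersion hU₁.fromSpec
    let Q₀ : Spec (CommRingCat.of P) := (⟨RingHom.ker mk, RingHom.ker_isPrime mk⟩ : PrimeSpectrum P)
    have hQ₀ : ι' Q₀ ⤳ g (hU₁.fromSpec η) := by
      rw [show g (hU₁.fromSpec η) = ι' (Spec.map φ η) by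
        rw [← Scheme.Hom.comp_apply, ← Scheme.Hom.comp_apply, hφg]]
      refine Specializes.map ((PrimeSpectrum.le_iff_specializes
        (⟨RingHom.ker mk, RingHom.ker_isPrime mk⟩ : PrimeSpectrum P) (Spec.map φ η : PrimeSpectrum P)).1 ?_) ι'.continuous
      intro G hG
      exact nilradical_le_prime _ (H := (Spec.map φ η : PrimeSpectrum P).isPrime) (hmknil G hG)
    rw [hη] at hQ₀
    have h2 := FDescent.maximal_of_closure_mem_irreducibleComponents h1 hQ₀
    rw [← hη, ← Scheme.Hom.comp_apply, ← hφg, Scheme.Hom.comp_apply] at h2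
    intro G hG
    have h3 : RingHom.ker mk = (Spec.map φ η : PrimeSpectrum P).asIdeal :=
      congrArg PrimeSpectrum.asIdeal (ι'.isOpenEmbedding.injective h2)
    exact RingHom.mem_ker.1 (h3.ge (show φ.hom G ∈ (⊥ : Ideal B) from hG))
  let φA : A →+* B := Ideal.Quotient.lift _ (φ.hom.comp MvPolynomial.C) fun r hr =>
    ((mem_nilradical.1 hr).map (φ.hom.comp MvPolynomial.C)).eq_zero
  let φ' : MvPolynomial σ A →+* B := MvPolynomial.eval₂Hom φA fun i => φ.hom (MvPolynomial.X i)
  have hφ' : φ'.comp mk = φ.hom := MvPolynomial.ringHom_ext (fun r => by simp [φ', mk, φA]; rfl) fun i => by simp [φ', mk]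
  letI : Algebra P (MvPolynomial σ A) := mk.toAlgebra
  letI : Algebra (MvPolynomial σ A) B := φ'.toAlgebra
  letI : Algebra P B := φ.hom.toAlgebra
  haveI : IsScalarTower P (MvPolynomial σ A) B := IsScalarTower.of_algebraMap_eq fun G => (RingHom.congr_fun hφ' G).symm
  haveI : Algebra.QuasiFinite P B := hφqf
  haveI : Algebra.FiniteType P B := hφft
  haveI : Algebra.QuasiFinite (MvPolynomial σ A) B := Algebra.QuasiFinite.of_restrictScalars P (MvPolynomial σ A) B
  haveI : Algebra.FiniteType (MvPolynomial σ A) B := Algebra.FiniteType.of_restrictScalars_finiteType P _ _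
  have hinj : Function.Injective φ' := (injective_iff_map_eq_zero _).2 fun a ha => by
    obtain ⟨G, rfl⟩ := hmk a
    exact hker G ((RingHom.congr_fun hφ' G).symm.trans ha)
  obtain ⟨r, hrq, huo⟩ := exists_univOpen_away (fun p _ => gu_localization_red hS hV p) σ hinj
    (hU₁.primeIdealOf ⟨x', hxU₁⟩).asIdeal
  let jr := Spec.map (CommRingCat.ofHom (algebraMap B (Localization.Away r)))
  refine ⟨_, jr ≫ hU₁.fromSpec ≫ U.ι, ?_, ?_⟩
  · obtain ⟨w, hw⟩ : hU₁.primeIdealOf ⟨x', hxU₁⟩ ∈ Set.range jr := by
      rw [show Set.range jr = Set.range (PrimeSpectrum.comap (algebraMap B (Localization.Away r))) from rfl,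
        PrimeSpectrum.localization_away_comap_range (Localization.Away r) r]
      exact hrq
    refine ⟨w, ?_⟩
    rw [Scheme.Hom.comp_apply, Scheme.Hom.comp_apply, hw, hU₁.fromSpec_primeIdealOf]
    rfl
  · have hz : Spec.map (CommRingCat.ofHom (Ideal.Quotient.mk (nilradical R))) ≫ hV.fromSpec = _ := rfl
    haveI : Surjective (Spec.map (CommRingCat.ofHom (Ideal.Quotient.mk (nilradical R)))) :=
      ⟨(PrimeSpectrum.comap_quotientMk_bijective_of_le_nilradical le_rfl).2⟩
    haveI : IsClosedImmersion (Spec.map (CommRingCat.ofHom (Ideal.Quotient.mk (nilradical R)))) :=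
      IsClosedImmersion.spec_of_surjective _ Ideal.Quotient.mk_surjective
    haveI := universallyOpen_of_universalHomeo (Spec.map (CommRingCat.ofHom (Ideal.Quotient.mk (nilradical R))))
    haveI := huo
    have key : (jr ≫ hU₁.fromSpec ≫ U.ι) ≫ f =
        Spec.map (CommRingCat.ofHom ((algebraMap B (Localization.Away r)).comp (φ'.comp MvPolynomial.C))) ≫
          Spec.map (CommRingCat.ofHom (Ideal.Quotient.mk (nilradical R))) ≫ hV.fromSpec := by
      rw [← Spec.map_comp_assoc, Category.assoc, Category.assoc, ← hg, ← reassoc_of% hφg, hι'π,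
        ← Spec.map_comp_assoc, ← Spec.map_comp_assoc]
      congr 2
      refine CommRingCat.hom_ext (RingHom.ext fun a => ?_)
      simp [φ', φA]; rfl
    rw [key]
    infer_instance

end Groth.Agent.UnivOpen
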