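import Groth.Agent.UnivOpen.Criterion
import Groth.Agent.UnivOpen.UnibranchAlg
import Mathlib.RingTheory.IntegralClosure.GoingDown
import Mathlib.RingTheory.Spectrum.Prime.Chevalley
import Mathlib.FieldTheory.Minpoly.IsIntegrallyClosed
import Mathlib.RingTheory.TensorProduct.MvPolynomial

/-!
# Integral extensions of normal domains are universally open

If `D` is a normal domain and `E` is a domain integral over `D` with `D → E` injective, then
`Spec E → Spec D` is universally open. No Noetherian or finiteness hypothesis is used.
-/

set_option autoImplicit false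
set_option linter.style.haveILetI false

open AlgebraicGeometry CategoryTheory Limits Topology TensorProduct

namespace Groth.Agent.UnivOpen

universe u

theorem isOpenMap_comap_of_normal {D E : Type u} [CommRing D] [IsDomain D] [IsIntegrallyClosed D]
    [CommRing E] [IsDomain E] [Algebra D E] [Algebra.IsIntegral D E]
    (h : Function.Injective (algebraMap D E)) :
    IsOpenMap (PrimeSpectrum.comap (algebraMap D E)) := by
  haveI : FaithfulSMul D E := (faithfulSMul_iff_algebraMap_injective _ _).2 h
  haveI : Module.IsTorsionFree D E := inferInstance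
  rw [PrimeSpectrum.isTopologicalBasis_basic_opens.isOpenMap_iff]
  rintro _ ⟨f, rfl⟩
  have hf : IsIntegral D f := Algebra.IsIntegral.isIntegral f
  let F := Algebra.adjoin D {f}
  let e : AdjoinRoot (minpoly D f) ≃ₐ[D] F := minpoly.equivAdjoin hf
  haveI : Module.Free D F :=
    haveI := (AdjoinRoot.powerBasis' (minpoly.monic hf)).basis
    Module.Free.of_equiv' (Module.Free.of_basis this) e.toLinearEquiv
  haveI : Algebra.FinitePresentation D F :=
    haveI : Algebra.FinitePresentation D (AdjoinRoot (minpoly D f)) :=
      Algebra.FinitePresentation.quotient (Submodule.fg_span_singleton _)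
    Algebra.FinitePresentation.equiv e
  haveI : Algebra.HasGoingDown D F := inferInstance
  haveI : Algebra.IsIntegral F E := Algebra.IsIntegral.tower_top D
  let f' : F := ⟨f, Algebra.self_mem_adjoin_singleton D f⟩
  have hpre : PrimeSpectrum.comap (algebraMap F E) ⁻¹' (PrimeSpectrum.basicOpen f' : Set _) =
      (PrimeSpectrum.basicOpen f : Set (PrimeSpectrum E)) := rfl
  have hsurj : Function.Surjective (PrimeSpectrum.comap (algebraMap F E)) :=
    RingHom.IsIntegral.comap_surjective (f := algebraMap F E) Algebra.IsIntegral.isIntegral
      Subtype.val_injective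
  show IsOpen (PrimeSpectrum.comap (algebraMap D E) '' (PrimeSpectrum.basicOpen f : Set _))
  rw [IsScalarTower.algebraMap_eq D F E, PrimeSpectrum.comap_comp, Set.image_comp, ← hpre,
    hsurj.image_preimage]
  exact PrimeSpectrum.isOpenMap_comap_of_hasGoingDown_of_finitePresentation _
    (PrimeSpectrum.basicOpen f').isOpen

/-- Integral injective extensions of a normal domain into a domain are universally open. -/
theorem universallyOpen_Spec_of_normal {D E : Type u} [CommRing D] [IsDomain D] [IsIntegrallyClosed D]
    [CommRing E] [IsDomain E] [Algebra D E] [Algebra.IsIntegral D E]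
    (h : Function.Injective (algebraMap D E)) :
    UniversallyOpen (Spec.map (CommRingCat.ofHom (algebraMap D E))) := by
  refine (universallyOpen_iff_forall _).2 fun x => isUnivOpenAt_of_affineSpace _ x fun m x'' _ => ?_
  let σ := ULift.{u} (Fin m)
  letI : Algebra (MvPolynomial σ D) (MvPolynomial σ E) := MvPolynomial.algebraMvPolynomial
  haveI := isIntegrallyClosed_mvPolynomial D σ
  haveI := isIntegral_mvPolynomial D E σ
  have hopen := isOpenMap_comap_of_normal (D := MvPolynomial σ D) (E := MvPolynomial σ E)
    (MvPolynomial.map_injective _ h)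
  have sq : IsPullback (Spec.map (CommRingCat.ofHom (MvPolynomial.C : E →+* MvPolynomial σ E)))
      (Spec.map (CommRingCat.ofHom (algebraMap (MvPolynomial σ D) (MvPolynomial σ E))))
      (Spec.map (CommRingCat.ofHom (algebraMap D E)))
      (Spec.map (CommRingCat.ofHom (MvPolynomial.C : D →+* MvPolynomial σ D))) :=
    isPullback_SpecMap_of_isPushout _ _ _ _
      (CommRingCat.isPushout_of_isPushout D E (MvPolynomial σ D) (MvPolynomial σ E))
  let π := 𝔸(σ; Spec (CommRingCat.of D)) ↘ Spec (CommRingCat.of D)
  let e := (AffineSpace.SpecIso σ (CommRingCat.of D))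
  have sq' : IsPullback (Spec.map (CommRingCat.ofHom (MvPolynomial.C : E →+* MvPolynomial σ E)))
      (Spec.map (CommRingCat.ofHom (algebraMap (MvPolynomial σ D) (MvPolynomial σ E))) ≫ e.inv)
      (Spec.map (CommRingCat.ofHom (algebraMap D E))) π := by
    refine sq.of_iso (Iso.refl _) (Iso.refl _) e.symm (Iso.refl _) (by simp) (by simp) (by simp) ?_
    simp [π, e, AffineSpace.SpecIso_inv_over]
  have hsnd : IsOpenMap (pullback.snd (Spec.map (CommRingCat.ofHom (algebraMap D E))) π).base := by
    rw [← sq'.isoPullback_inv_snd]
    exact (e.inv.isOpenEmbedding.isOpenMap.comp hopen).comp sq'.isoPullback.inv.isOpenEmbedding.isOpenMap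
  exact fun U hU => hsnd.image_mem_nhds hU

end Groth.Agent.UnivOpen
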