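import Groth.Agent.UnivOpen.Normal.Basic
import Groth.Agent.UnivOpen.GeomUnibranch
import Groth.Agent.QHomeo.OpenAt
import Mathlib.AlgebraicGeometry.Morphisms.UniversallyInjective
import Mathlib.AlgebraicGeometry.Morphisms.Integral

/-!
# The normalization of a geometrically unibranch domain is a universal homeomorphism
-/

set_option autoImplicit false
set_option linter.style.haveILetI false

open AlgebraicGeometry CategoryTheory Limits Topology TensorProduct

namespace Groth.Agent.UnivOpen

universe u

/-- Integral, universally injective, surjective morphisms are universally open. -/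
theorem universallyOpen_of_universalHomeo {X Y : Scheme.{u}} (f : X ⟶ Y) [IsIntegralHom f]
    [UniversallyInjective f] [Surjective f] : UniversallyOpen f := by
  rw [UniversallyOpen.eq]
  intro X' Y' i₁ i₂ f' hf
  haveI : IsIntegralHom f' := MorphismProperty.of_isPullback hf.flip inferInstance
  haveI : UniversallyInjective f' := MorphismProperty.of_isPullback hf.flip inferInstance
  haveI : Surjective f' := MorphismProperty.of_isPullback hf.flip inferInstance
  intro U hU
  have hb : Function.Bijective f'.base := ⟨f'.injective, f'.surjective⟩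
  have h1 := f'.isClosedMap _ hU.isClosed_compl
  rw [Set.image_compl_eq hb, isClosed_compl_iff] at h1
  exact h1

/-- Two maps to a field out of the normalization which agree on the base are equal. -/
theorem normalization_hom_ext {A : Type u} [CommRing A] [IsDomain A]
    (hA : ∀ (p : Ideal A) [p.IsPrime], GU (Localization.AtPrime p)) {Ω : Type u} [Field Ω]
    (φ ψ : integralClosure A (FractionRing A) →+* Ω)
    (h : ∀ a, φ (algebraMap A _ a) = ψ (algebraMap A _ a)) : φ = ψ := by
  let K := FractionRing A
  let D := integralClosure A K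
  let p : Ideal A := RingHom.ker (φ.comp (algebraMap A D))
  haveI : p.IsPrime := RingHom.ker_isPrime _
  let Lp := Localization.AtPrime p
  obtain ⟨hdomL, _, D', _, _, _, _, hn, hinj, hint, hins, hbir⟩ := hA p
  haveI := hdomL
  haveI := hn
  haveI := hint
  letI : Algebra A D' := ((algebraMap Lp D').comp (algebraMap A Lp)).toAlgebra
  haveI : IsScalarTower A Lp D' := IsScalarTower.of_algebraMap_eq fun _ => rfl
  let F := FractionRing D'
  have hAL : Function.Injective (algebraMap A Lp) :=
    IsLocalization.injective Lp p.primeCompl_le_nonZeroDivisors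
  have hAF : Function.Injective (algebraMap A F) := by
    rw [IsScalarTower.algebraMap_eq A D' F]
    exact (IsFractionRing.injective D' F).comp (hinj.comp hAL)
  let θ : K →+* F := IsFractionRing.lift hAF
  have hθ : ∀ a, θ (algebraMap A K a) = algebraMap A F a := IsFractionRing.lift_algebraMap hAF
  let κ : Lp →+* K := IsLocalization.lift (M := p.primeCompl) (g := algebraMap A K) fun t =>
    IsUnit.mk0 _ ((map_ne_zero_iff _ (IsFractionRing.injective A K)).2 fun h0 => t.2 (h0 ▸ p.zero_mem))
  letI : Algebra Lp K := κ.toAlgebra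
  haveI : IsScalarTower A Lp K := IsScalarTower.of_algebraMap_eq fun a =>
    (IsLocalization.lift_eq _ a).symm
  have hθκ : θ.comp κ = (algebraMap D' F).comp (algebraMap Lp D') :=
    IsLocalization.ringHom_ext p.primeCompl (RingHom.ext fun a => by
      simp only [RingHom.comp_apply]
      rw [show κ (algebraMap A Lp a) = algebraMap A K a from IsLocalization.lift_eq _ a, hθ]
      rfl)
  -- `D → D'`
  have hex : ∀ d : D, ∃ z : D', algebraMap D' F z = θ d.1 := fun d => by
    refine IsIntegrallyClosed.isIntegral_iff.mp ?_
    obtain ⟨P, hP, hPd⟩ := d.2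
    refine ⟨P.map (algebraMap A D'), hP.map _, ?_⟩
    have h1 := congrArg θ hPd
    rw [map_zero, Polynomial.hom_eval₂] at h1
    rw [Polynomial.eval₂_map, ← h1]
    congr 1
    refine RingHom.ext fun a => ?_
    exact ((hθ a).trans (IsScalarTower.algebraMap_apply A D' F a)).symm
  choose j hj using hex
  have hi := IsFractionRing.injective D' F
  let jh : D →+* D' :=
    { toFun := j
      map_one' := hi (by simp only [hj, map_one, OneMemClass.coe_one])
      map_mul' := fun a b => hi (by simp only [hj, map_mul, MulMemClass.coe_mul])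
      map_zero' := hi (by simp only [hj, map_zero, ZeroMemClass.coe_zero])
      map_add' := fun a b => hi (by simp only [hj, map_add, AddMemClass.coe_add]) }
  have hja : ∀ a, jh (algebraMap A D a) = algebraMap A D' a := fun a => hi (by
    show algebraMap D' F (j (algebraMap A D a)) = _
    rw [hj, ← IsScalarTower.algebraMap_apply A D' F]
    exact hθ a)
  letI : Algebra D D' := jh.toAlgebra
  let M : Submonoid D := Algebra.algebraMapSubmonoid D p.primeCompl
  haveI : IsLocalization M D' :=
    { map_units := by
        rintro ⟨_, t, ht, rfl⟩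
        show IsUnit (jh (algebraMap A D t))
        rw [hja]
        exact (IsLocalization.map_units Lp (⟨t, ht⟩ : p.primeCompl)).map (algebraMap Lp D')
      surj := fun z => by
        obtain ⟨a, s, hs, hsz⟩ := hbir z
        let w : K := κ a / κ s
        have hw : θ w = algebraMap D' F z := by
          have h1 : θ (κ a) = algebraMap D' F (algebraMap Lp D' a) := RingHom.congr_fun hθκ a
          have h2 : θ (κ s) = algebraMap D' F (algebraMap Lp D' s) := RingHom.congr_fun hθκ s
          rw [map_div₀, h1, h2, ← hsz, map_mul, mul_div_cancel_left₀]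
          exact (map_ne_zero_iff _ hi).2 ((map_ne_zero_iff _ hinj).2 hs)
        have hwi : IsIntegral Lp w := by
          obtain ⟨P, hP, hPz⟩ := hint.isIntegral z
          refine ⟨P, hP, θ.injective ?_⟩
          rw [map_zero, Polynomial.hom_eval₂, hw, show θ.comp (algebraMap Lp K) = _ from hθκ,
            ← Polynomial.hom_eval₂, hPz, map_zero]
        obtain ⟨t, ht⟩ := IsIntegral.exists_multiple_integral_of_isLocalization p.primeCompl w hwi
        refine ⟨⟨⟨t.1 • w, ht⟩, ⟨algebraMap A D t.1, t.1, t.2, rfl⟩⟩, hi ?_⟩
        show algebraMap D' F (z * jh (algebraMap A D t.1)) = algebraMap D' F (j ⟨t.1 • w, ht⟩)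
        rw [hj, hja, map_mul, ← IsScalarTower.algebraMap_apply A D' F, ← hθ, ← hw, ← map_mul]
        exact congrArg θ ((mul_comm _ _).trans (Algebra.smul_def _ _).symm)
      exists_of_eq := fun {x y} hxy => ⟨1, by
        rw [show x = y from Subtype.val_injective (θ.injective (by rw [← hj, ← hj]; exact congrArg _ hxy))]⟩ }
  have hu : ∀ (χ : D →+* Ω), (∀ a, φ (algebraMap A D a) = χ (algebraMap A D a)) → ∀ m : M, IsUnit (χ m) := by
    rintro χ hχ ⟨_, t, ht, rfl⟩
    refine IsUnit.mk0 _ ?_
    rw [← hχ t]
    exact ht
  let φ' : D' →+* Ω := IsLocalization.lift (hu φ fun _ => rfl)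
  let ψ' : D' →+* Ω := IsLocalization.lift (hu ψ h)
  have heφ : ∀ d, φ' (jh d) = φ d := IsLocalization.lift_eq (hu φ fun _ => rfl)
  have heψ : ∀ d, ψ' (jh d) = ψ d := IsLocalization.lift_eq (hu ψ h)
  have hL : φ'.comp (algebraMap Lp D') = ψ'.comp (algebraMap Lp D') :=
    IsLocalization.ringHom_ext p.primeCompl (RingHom.ext fun a => by
      show φ' (algebraMap A D' a) = ψ' (algebraMap A D' a)
      rw [← hja, heφ, heψ, h])
  have hker : ∀ χ : D' →+* Ω, χ.comp (algebraMap Lp D') = φ'.comp (algebraMap Lp D') →
      IsLocalRing.maximalIdeal D' ≤ RingHom.ker χ := by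
    intro χ hχ
    haveI : (RingHom.ker χ).IsPrime := RingHom.ker_isPrime χ
    have h1 : (RingHom.ker χ).comap (algebraMap Lp D') = IsLocalRing.maximalIdeal Lp := by
      refine le_antisymm (IsLocalRing.le_maximalIdeal_of_isPrime _) ?_
      rw [← Localization.AtPrime.map_eq_maximalIdeal, Ideal.map_le_iff_le_comap]
      intro a ha
      show χ (algebraMap A D' a) = 0
      rw [show χ (algebraMap A D' a) = φ' (algebraMap A D' a) from RingHom.congr_fun hχ (algebraMap A Lp a),
        ← hja, heφ]
      exact ha
    exact (IsLocalRing.eq_maximalIdeal (Ideal.isMaximal_of_isIntegral_of_isMaximal_comap (R := Lp) _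
      (h1 ▸ IsLocalRing.maximalIdeal.isMaximal Lp))).ge
  have := eq_of_agree_of_purelyInseparable (A := Lp) hins φ' ψ' (hker φ' rfl) (hker ψ' hL.symm)
    (RingHom.congr_fun hL)
  exact RingHom.ext fun d => by rw [← heφ, ← heψ, this]

/-- Universal openness descends along surjections. -/
theorem universallyOpen_of_comp_surjective {X Y Z : Scheme.{u}} (k : X ⟶ Y) (g : Y ⟶ Z) [Surjective k]
    (h : UniversallyOpen (k ≫ g)) : UniversallyOpen g := by
  rw [universallyOpen_iff_forall] at h ⊢
  intro y
  obtain ⟨x, rfl⟩ := k.surjective y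
  exact QHomeo.univOpenAt_of_comp (h x)

theorem universallyInjective_normalization {A : Type u} [CommRing A] [IsDomain A]
    (hA : ∀ (p : Ideal A) [p.IsPrime], GU (Localization.AtPrime p)) :
    UniversallyInjective (Spec.map (CommRingCat.ofHom (algebraMap A (integralClosure A (FractionRing A))))) := by
  refine ((tfae_universallyInjective _).out 1 0).1 ?_
  intro K _ g₁ g₂ hg
  obtain ⟨a, rfl⟩ := Spec.map_surjective g₁
  obtain ⟨b, rfl⟩ := Spec.map_surjective g₂
  simp only [← Spec.map_comp] at hg
  have h := congrArg CommRingCat.Hom.hom (Spec.map_injective hg)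
  congr 1
  exact CommRingCat.hom_ext (normalization_hom_ext hA (Ω := K) a.hom b.hom (RingHom.congr_fun h))

/-- If `P → P'` is an integral extension with `P'` normal whose spectrum map is universally injective, then
integral extensions of `P` into domains are universally open. -/
theorem universallyOpen_Spec_of_homeo {P P' C : Type u} [CommRing P] [CommRing P'] [CommRing C] [IsDomain P']
    [IsIntegrallyClosed P'] [IsDomain C] [Algebra P P'] [Algebra.IsIntegral P P'] [Algebra P C]
    [Algebra.IsIntegral P C] (hPP' : Function.Injective (algebraMap P P'))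
    (hinj : Function.Injective (algebraMap P C))
    [UniversallyInjective (Spec.map (CommRingCat.ofHom (algebraMap P P')))] :
    UniversallyOpen (Spec.map (CommRingCat.ofHom (algebraMap P C))) := by
  let h := Spec.map (CommRingCat.ofHom (algebraMap P P'))
  haveI : UniversallyInjective h := inferInstanceAs (UniversallyInjective (Spec.map _))
  haveI : IsIntegralHom h := IsIntegralHom.SpecMap_iff.2 fun x => Algebra.IsIntegral.isIntegral (R := P) x
  haveI : Surjective h :=
    ⟨RingHom.IsIntegral.comap_surjective (f := algebraMap P P') Algebra.IsIntegral.isIntegral hPP'⟩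
  let M := C ⊗[P] P'
  let iC : C →+* M := Algebra.TensorProduct.includeLeftRingHom
  let iP : P' →+* M := (Algebra.TensorProduct.includeRight : P' →ₐ[P] M).toRingHom
  have sq : IsPullback (Spec.map (CommRingCat.ofHom iC)) (Spec.map (CommRingCat.ofHom iP))
      (Spec.map (CommRingCat.ofHom (algebraMap P C))) h :=
    isPullback_SpecMap_of_isPushout _ _ _ _ (CommRingCat.isPushout_tensorProduct P C P')
  haveI : UniversallyInjective (Spec.map (CommRingCat.ofHom iC)) :=
    MorphismProperty.of_isPullback sq.flip (inferInstanceAs (UniversallyInjective h))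
  haveI : Surjective (Spec.map (CommRingCat.ofHom iC)) :=
    MorphismProperty.of_isPullback sq.flip (inferInstanceAs (Surjective h))
  have hbij : Function.Bijective (PrimeSpectrum.comap iC) :=
    ⟨(Spec.map (CommRingCat.ofHom iC)).injective, (Spec.map (CommRingCat.ofHom iC)).surjective⟩
  obtain ⟨q, hq⟩ := hbij.2 ⟨⊥, Ideal.isPrime_bot⟩
  have hqb : q.asIdeal.comap iC = ⊥ := congrArg PrimeSpectrum.asIdeal hq
  haveI : IsIntegralHom (Spec.map (CommRingCat.ofHom iC)) :=
    MorphismProperty.of_isPullback sq.flip (inferInstanceAs (IsIntegralHom h))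
  haveI : Algebra.IsIntegral C M :=
    ⟨(IsIntegralHom.SpecMap_iff (φ := CommRingCat.ofHom iC)).1 ‹_›⟩
  haveI := q.isPrime
  have hqle : ∀ r : Ideal M, r.IsPrime → q.asIdeal ≤ r := by
    intro r hr
    haveI : (r.comap iC).IsPrime := Ideal.IsPrime.comap iC
    obtain ⟨r', hr'q, hr', hr's⟩ := Ideal.exists_ideal_over_prime_of_isIntegral (R := C) (r.comap iC) q.asIdeal
      (hqb.trans_le bot_le)
    have h1 : (⟨r', hr'⟩ : PrimeSpectrum M) = ⟨r, hr⟩ := hbij.1 (PrimeSpectrum.ext hr's)
    exact hr'q.trans_eq (congrArg PrimeSpectrum.asIdeal h1)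
  have hqnil : q.asIdeal = nilradical M := by
    refine le_antisymm ?_ (nilradical_le_prime _)
    rw [nilradical_eq_sInf]
    exact le_sInf hqle
  letI : Algebra P' (M ⧸ q.asIdeal) := ((Ideal.Quotient.mk q.asIdeal).comp iP).toAlgebra
  haveI : IsIntegralHom (Spec.map (CommRingCat.ofHom iP)) :=
    MorphismProperty.of_isPullback sq (IsIntegralHom.SpecMap_iff.2 Algebra.IsIntegral.isIntegral)
  haveI : Algebra.IsIntegral P' (M ⧸ q.asIdeal) :=
    ⟨((IsIntegralHom.SpecMap_iff (φ := CommRingCat.ofHom iP)).1 ‹_›).trans iP _
      (RingHom.isIntegral_of_surjective _ Ideal.Quotient.mk_surjective)⟩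
  have hinj' : Function.Injective (algebraMap P' (M ⧸ q.asIdeal)) := by
    rw [RingHom.injective_iff_ker_eq_bot]
    haveI : (RingHom.ker (algebraMap P' (M ⧸ q.asIdeal))).IsPrime := RingHom.ker_isPrime _
    haveI : IsDomain P := hPP'.isDomain
    refine Ideal.eq_bot_of_comap_eq_bot (R := P) (eq_bot_iff.2 fun a ha => hinj ?_)
    have h1 : iP (algebraMap P P' a) = iC (algebraMap P C a) :=
      ((Algebra.TensorProduct.includeRight : _ →ₐ[P] M).commutes a).trans
        ((Algebra.TensorProduct.includeLeft : C →ₐ[P] M).commutes a).symm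
    have h2 : algebraMap P C a ∈ q.asIdeal.comap iC := by
      rw [Ideal.mem_comap, ← h1, ← Ideal.Quotient.eq_zero_iff_mem]
      exact ha
    rw [map_zero]
    exact hqb.le h2
  have hopen := universallyOpen_Spec_of_normal hinj'
  haveI : UniversallyOpen h := universallyOpen_of_universalHomeo h
  let k := Spec.map (CommRingCat.ofHom ((Ideal.Quotient.mk q.asIdeal).comp iC))
  haveI : Surjective k := by
    rw [show k = Spec.map (CommRingCat.ofHom (Ideal.Quotient.mk q.asIdeal)) ≫ Spec.map (CommRingCat.ofHom iC) by
      rw [← Spec.map_comp]; rfl]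
    haveI : Surjective (Spec.map (CommRingCat.ofHom (Ideal.Quotient.mk q.asIdeal))) :=
      ⟨(PrimeSpectrum.comap_quotientMk_bijective_of_le_nilradical hqnil.le).2⟩
    infer_instance
  have hcomp : k ≫ Spec.map (CommRingCat.ofHom (algebraMap P C)) =
      Spec.map (CommRingCat.ofHom (algebraMap P' (M ⧸ q.asIdeal))) ≫ h := by
    simp only [k, h, ← Spec.map_comp, ← CommRingCat.ofHom_comp]
    congr 2
    refine RingHom.ext fun a => congrArg (Ideal.Quotient.mk q.asIdeal) ?_
    exact ((Algebra.TensorProduct.includeLeft : C →ₐ[P] M).commutes a).trans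
      ((Algebra.TensorProduct.includeRight : _ →ₐ[P] M).commutes a).symm
  exact universallyOpen_of_comp_surjective k _ (by rw [hcomp]; infer_instance)

/-- An injective integral extension into a domain of a polynomial ring over a geometrically unibranch
domain is universally open. -/
theorem universallyOpen_Spec_of_geomUnibranch {A : Type u} [CommRing A] [IsDomain A]
    (hA : ∀ (p : Ideal A) [p.IsPrime], GU (Localization.AtPrime p)) (σ : Type u)
    {C : Type u} [CommRing C] [IsDomain C] [Algebra (MvPolynomial σ A) C]
    [Algebra.IsIntegral (MvPolynomial σ A) C]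
    (hinj : Function.Injective (algebraMap (MvPolynomial σ A) C)) :
    UniversallyOpen (Spec.map (CommRingCat.ofHom (algebraMap (MvPolynomial σ A) C))) := by
  let D := integralClosure A (FractionRing A)
  haveI : IsIntegrallyClosed D := integralClosure.isIntegrallyClosedOfFiniteExtension (FractionRing A)
  have hAD : Function.Injective (algebraMap A D) := fun a b hab =>
    IsFractionRing.injective A (FractionRing A) (congrArg Subtype.val hab)
  letI : Algebra (MvPolynomial σ A) (MvPolynomial σ D) := MvPolynomial.algebraMvPolynomial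
  haveI := isIntegrallyClosed_mvPolynomial D σ
  haveI : Algebra.IsIntegral (MvPolynomial σ A) (MvPolynomial σ D) := isIntegral_mvPolynomial A D σ
  haveI := MorphismProperty.of_isPullback (P := @UniversallyInjective)
    (isPullback_SpecMap_of_isPushout _ _ _ _
      (CommRingCat.isPushout_of_isPushout A D (MvPolynomial σ A) (MvPolynomial σ D)))
    (universallyInjective_normalization hA)
  exact universallyOpen_Spec_of_homeo (P' := MvPolynomial σ D) (MvPolynomial.map_injective _ hAD) hinj

end Groth.Agent.UnivOpen
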